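import Mathlib
import Cfsg.Prelude.Def_TwoFusion
import Cfsg.Agent.LieRecognition.RankOneAbstract
import Cfsg.Agent.SuzukiRankOne.SzModel
import Cfsg.Agent.SuzukiRankOne.Reduction
import Cfsg.Agent.TwoFusion.GoldBenPSU

-- merged: Cfsg.Agent.FooteExc.Pack
section

/-!
# The exceptional groups of S1252: abstract facts (helper86)

`Pack H S w`: a group `Y` with a rank-one decomposition `Data H S w`, `S` a Sylow `2`-subgroup of class two with
`Φ(S) ≤ Z(S) = S'` elementary abelian, and the facts about the torus `H ∩ wHw⁻¹` which are used.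

* `Pack.exists_conj` : an automorphism of `Y` which normalises `S` and centralises `S/Z(S)` is the conjugation with
  an element of `S`;
* `Pack.mem_center` : ... with an element of `Z(S)` if it is induced by an element of a strongly closed subgroup.
-/

set_option autoImplicit false

namespace Cfsg.Agent.FooteExc

open Subgroup Cfsg.Agent.LieRecognition.RankOneAbstract

/-- the centre of `S`, as a subgroup of the whole group -/
def Zs {Y : Type*} [Group Y] (S : Subgroup Y) : Subgroup Y := S ⊓ centralizer (S : Set Y)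

theorem mem_Zs {Y : Type*} [Group Y] {S : Subgroup Y} {z : Y} : z ∈ Zs S ↔ z ∈ S ∧ ∀ s ∈ S, s * z = z * s := by
  rw [Zs, mem_inf, mem_centralizer_iff]; rfl

/-- the set of commutators of elements of `S` -/
def commSet {Y : Type*} [Group Y] (S : Subgroup Y) : Set Y := {c | ∃ s ∈ S, ∃ t ∈ S, s * t * s⁻¹ * t⁻¹ = c}

/-- the facts about `Sz(q)` and `PSU(3, q)`, `q` even, which are used -/
structure Pack {Y : Type*} [Group Y] (H S : Subgroup Y) (w : Y) : Prop where
  data : Data H S w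
  two : IsPGroup 2 S
  odd : ¬ 2 ∣ S.index
  core : ∀ g : Y, (∀ k : Y, k⁻¹ * g * k ∈ H) → g = 1
  ne : S ≠ ⊥
  zsq : ∀ z ∈ Zs S, z * z = 1
  sq : ∀ s ∈ S, s * s ∈ Zs S
  gen : Zs S ≤ closure (commSet S)
  faith : ∀ d ∈ H, w⁻¹ * d * w ∈ H → (∀ s ∈ S, s⁻¹ * (d * s * d⁻¹) ∈ Zs S) → d = 1
  hom : ∀ f : Y → Y, (∀ s ∈ S, f s ∈ Zs S) → (∀ s ∈ S, ∀ t ∈ S, f (s * t) = f s * f t) →
    (∀ z ∈ Zs S, f z = 1) → (∀ d ∈ H, w⁻¹ * d * w ∈ H → ∀ s ∈ S, f (d * s * d⁻¹) = d * f s * d⁻¹) → ∀ s ∈ S, f s = 1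
  fuse : ∀ t ∈ S, (∀ d ∈ H, t⁻¹ * (d * t * d⁻¹) ∈ Zs S) → t ∈ Zs S
  form : ∃ d₁ ∈ H, ∃ d₂ ∈ H, (∀ s ∈ S, (s * (d₁ * s * d₁⁻¹))⁻¹ * (d₂ * s * d₂⁻¹) ∈ Zs S) ∧
    ∀ t ∈ S, ∃ t' ∈ S, t⁻¹ * (t' * (d₁⁻¹ * t' * d₁) * (d₂⁻¹ * t' * d₂)) ∈ Zs S

namespace Pack

variable {Y : Type*} [Group Y] {H S : Subgroup Y} {w : Y} (h : Pack H S w)

include h

/-- `N(S) = H` -/
theorem mem_normalizer {g : Y} : g ∈ normalizer (S : Set Y) ↔ g ∈ H := by
  constructor
  · intro hg
    by_contra hgH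
    obtain ⟨s, hs, hb⟩ := h.data.bruhat g hgH
    -- `w` normalises `S` modulo `H`
    apply h.ne
    rw [eq_bot_iff]
    intro x hx
    rw [mem_bot]
    -- `k := (s w)⁻¹ g ∈ H`, `w = s⁻¹ g k⁻¹`
    set k := (s * w)⁻¹ * g with hk
    have hw : w = s⁻¹ * g * k⁻¹ := by rw [hk]; group
    have hkS : ∀ y ∈ S, k * y * k⁻¹ ∈ S := fun y hy => h.data.norm k hb y hy
    have hgS : ∀ y ∈ S, g⁻¹ * y * g ∈ S := fun y hy => by
      have := (Subgroup.mem_normalizer_iff.1 (inv_mem hg) y).1 hy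
      simpa using this
    apply h.data.inter x hx
    apply h.data.le
    have e : w⁻¹ * x * w = k * (g⁻¹ * (s * x * s⁻¹) * g) * k⁻¹ := by rw [hw]; group
    rw [e]
    exact hkS _ (hgS _ (mul_mem (mul_mem hs hx) (inv_mem hs)))
  · intro hg
    rw [Subgroup.mem_normalizer_iff]
    intro x
    constructor
    · intro hx; exact h.data.norm g hg x hx
    · intro hx
      have := h.data.norm g⁻¹ (inv_mem hg) _ hx
      have e : g⁻¹ * (g * x * g⁻¹) * g⁻¹⁻¹ = x := by group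
      rwa [e] at this

theorem conj_Zs {g z : Y} (hg : g ∈ H) (hz : z ∈ Zs S) : g * z * g⁻¹ ∈ Zs S := by
  rw [mem_Zs] at hz ⊢
  refine ⟨h.data.norm g hg z hz.1, fun s hs => ?_⟩
  have h1 := h.data.norm g⁻¹ (inv_mem hg) s hs
  have h2 := hz.2 _ h1
  have e1 : s * (g * z * g⁻¹) = g * (g⁻¹ * s * g⁻¹⁻¹ * z) * g⁻¹ := by group
  rw [e1, h2]
  group

/-- **(E3a)** an automorphism which normalises `S` and centralises `S/Z(S)` is the conjugation with an element
of `S`. -/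
theorem exists_conj [Finite Y] (α : MulAut Y) (hS : ∀ s ∈ S, s⁻¹ * α s ∈ Zs S) :
    ∃ t ∈ S, ∀ y, α y = t * y * t⁻¹ := by
  have hZle : Zs S ≤ S := inf_le_left
  have hαS : ∀ s ∈ S, α s ∈ S := fun s hs => by
    have := mul_mem hs (hZle (hS s hs))
    rwa [mul_inv_cancel_left] at this
  -- `α(S) = S`
  have hαS' : ∀ s, α s ∈ S → s ∈ S := by
    have h1 : S.map α.toMonoidHom = S := by
      apply Subgroup.eq_of_le_of_card_ge
      · rintro _ ⟨s, hs, rfl⟩; exact hαS s hs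
      · rw [Subgroup.card_map_of_injective α.injective]
    intro s hs
    rw [← h1] at hs
    obtain ⟨t, ht, he⟩ := hs
    have : t = s := α.injective he
    rwa [← this]
  have hαH : ∀ g, g ∈ H → α g ∈ H := by
    intro g hg
    rw [← h.mem_normalizer] at hg ⊢
    rw [Subgroup.mem_normalizer_iff] at hg ⊢
    intro x
    obtain ⟨x, rfl⟩ := α.surjective x
    rw [← map_inv, ← map_mul, ← map_mul]
    exact ⟨fun hx => hαS _ ((hg x).1 (hαS' x hx)), fun hx => hαS _ ((hg x).2 (hαS' _ hx))⟩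
  have hwH : α w ∉ H := by
    intro hw
    -- `α⁻¹` also preserves `H`
    apply h.data.w_not_mem
    rw [← h.mem_normalizer] at hw ⊢
    rw [Subgroup.mem_normalizer_iff] at hw ⊢
    intro x
    constructor
    · intro hx
      apply hαS'
      rw [map_mul, map_mul, map_inv]
      exact (hw _).1 (hαS _ hx)
    · intro hx
      apply hαS'
      apply (hw _).2
      rw [← map_inv, ← map_mul, ← map_mul]
      exact hαS _ hx
  obtain ⟨t, ht, hb⟩ := h.data.bruhat _ hwH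
  -- `β y = t⁻¹ α(y) t`
  set β : MulAut Y := MulAut.conj t⁻¹ * α with hβ
  have hβa : ∀ y, β y = t⁻¹ * α y * t := fun y => by
    rw [hβ, MulAut.mul_apply, MulAut.conj_apply, inv_inv]
  have htH : t ∈ H := h.data.le ht
  have hβS : ∀ s ∈ S, β s ∈ S := fun s hs => by
    rw [hβa]; exact mul_mem (mul_mem (inv_mem ht) (hαS s hs)) ht
  have hβH : ∀ g ∈ H, β g ∈ H := fun g hg => by
    rw [hβa]; exact mul_mem (mul_mem (inv_mem htH) (hαH g hg)) htH
  obtain ⟨k, hk, hkw⟩ : ∃ k ∈ H, β w = w * k := by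
    refine ⟨w⁻¹ * β w, ?_, by rw [mul_inv_cancel_left]⟩
    rw [hβa]
    have e : w⁻¹ * (t⁻¹ * α w * t) = ((t * w)⁻¹ * α w) * t := by group
    rw [e]
    exact mul_mem hb htH
  -- commutators of elements of `S` are central
  have hcomm : ∀ s ∈ S, ∀ u ∈ S, s⁻¹ * (u * s * u⁻¹) ∈ Zs S := by
    intro s hs u hu
    have e : s⁻¹ * (u * s * u⁻¹) = (s⁻¹ * s⁻¹) * ((s * u) * (s * u)) * (u⁻¹ * u⁻¹) := by group
    rw [e]
    exact mul_mem (mul_mem (h.sq _ (inv_mem hs)) (h.sq _ (mul_mem hs hu))) (h.sq _ (inv_mem hu))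
  have hβZ : ∀ s ∈ S, s⁻¹ * β s ∈ Zs S := by
    intro s hs
    have h1 := hS s hs
    have h2 := (mem_Zs.1 h1).2 t ht
    have e : s⁻¹ * β s = s⁻¹ * (t⁻¹ * s * t⁻¹⁻¹) * (s⁻¹ * α s) := by
      have h3 : α s = s * (s⁻¹ * α s) := by group
      calc s⁻¹ * β s = s⁻¹ * t⁻¹ * (s * (s⁻¹ * α s)) * t := by rw [← h3, hβa]; group
        _ = s⁻¹ * t⁻¹ * s * ((s⁻¹ * α s) * t) := by group
        _ = s⁻¹ * t⁻¹ * s * (t * (s⁻¹ * α s)) := by rw [h2]
        _ = _ := by group
    rw [e]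
    exact mul_mem (hcomm s hs t⁻¹ (inv_mem ht)) h1
  -- `β` centralises the torus
  have hβd : ∀ d ∈ H, w⁻¹ * d * w ∈ H → β d = d := by
    intro d hd hdw
    have hβd1 : β d ∈ H := hβH d hd
    have hβd2 : w⁻¹ * β d * w ∈ H := by
      have h1 := hβH _ hdw
      rw [map_mul, map_mul, map_inv, hkw] at h1
      have e : w⁻¹ * β d * w = k * ((w * k)⁻¹ * β d * (w * k)) * k⁻¹ := by group
      rw [e]
      exact mul_mem (mul_mem hk h1) (inv_mem hk)
    have h3 : d⁻¹ * β d = 1 := by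
      apply h.faith _ (mul_mem (inv_mem hd) hβd1)
      · have e : w⁻¹ * (d⁻¹ * β d) * w = (w⁻¹ * d * w)⁻¹ * (w⁻¹ * β d * w) := by group
        rw [e]
        exact mul_mem (inv_mem hdw) hβd2
      · intro s hs
        -- `β(d) s β(d)⁻¹ ∈ d s d⁻¹ Z`
        have h4 := h.conj_Zs hβd1 (inv_mem (hβZ s hs))
        have h5 := hβZ _ (h.data.norm d hd s hs)
        rw [map_mul, map_mul, map_inv] at h5
        have h6 := mul_mem h5 h4
        have e : d⁻¹ * β d * s * (d⁻¹ * β d)⁻¹ = s * (d⁻¹ * ((d * s * d⁻¹)⁻¹ * (β d * β s * (β d)⁻¹) *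
          (β d * (s⁻¹ * β s)⁻¹ * (β d)⁻¹)) * d⁻¹⁻¹) := by group
        rw [e, inv_mul_cancel_left]
        exact h.conj_Zs (inv_mem hd) h6
    exact (inv_mul_eq_one.1 h3).symm
  -- `θ(s) = s⁻¹ β(s)` is a homomorphism
  have hθmul : ∀ s ∈ S, ∀ u ∈ S, (s * u)⁻¹ * β (s * u) = (s⁻¹ * β s) * (u⁻¹ * β u) := by
    intro s hs u hu
    have h1 := (mem_Zs.1 (hβZ s hs)).2 u hu
    calc (s * u)⁻¹ * β (s * u) = u⁻¹ * (s⁻¹ * β s) * β u := by rw [map_mul]; group
      _ = u⁻¹ * ((s⁻¹ * β s) * u) * u⁻¹ * β u := by group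
      _ = u⁻¹ * (u * (s⁻¹ * β s)) * u⁻¹ * β u := by rw [h1]
      _ = _ := by group
  have hβfix : ∀ z ∈ Zs S, β z = z := by
    intro z hz
    have h1 := h.gen hz
    refine closure_induction (p := fun x _ => β x = x) ?_ (map_one _) ?_ ?_ h1
    · rintro _ ⟨s, hs, u, hu, rfl⟩
      have h2 : β s = s * (s⁻¹ * β s) := by group
      have h3 : β u = u * (u⁻¹ * β u) := by group
      have hz1 := (mem_Zs.1 (hβZ s hs)).2
      have hz2 := (mem_Zs.1 (hβZ u hu)).2
      set z1 := s⁻¹ * β s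
      set z2 := u⁻¹ * β u
      have h2i : (β s)⁻¹ = s⁻¹ * z1⁻¹ := by
        rw [h2, _root_.mul_inv_rev]
        rw [← mul_left_cancel_iff (a := z1), mul_inv_cancel_left, ← mul_assoc, ← hz1 s⁻¹ (inv_mem hs),
          mul_inv_cancel_right]
      have h3i : (β u)⁻¹ = u⁻¹ * z2⁻¹ := by
        rw [h3, _root_.mul_inv_rev, ← mul_left_cancel_iff (a := z2), mul_inv_cancel_left, ← mul_assoc,
          ← hz2 u⁻¹ (inv_mem hu), mul_inv_cancel_right]
      rw [map_mul, map_mul, map_mul, map_inv, map_inv, h2i, h3i, h2, h3]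
      calc s * z1 * (u * z2) * (s⁻¹ * z1⁻¹) * (u⁻¹ * z2⁻¹)
          = s * (z1 * u) * (z2 * s⁻¹) * (z1⁻¹ * u⁻¹) * z2⁻¹ := by group
        _ = s * (u * z1) * (s⁻¹ * z2) * (z1⁻¹ * u⁻¹) * z2⁻¹ := by rw [hz1 u hu, hz2 s⁻¹ (inv_mem hs)]
        _ = s * u * (z1 * s⁻¹) * (z2 * (z1⁻¹ * u⁻¹)) * z2⁻¹ := by group
        _ = s * u * (s⁻¹ * z1) * (z2 * (z1⁻¹ * u⁻¹)) * z2⁻¹ := by rw [hz1 s⁻¹ (inv_mem hs)]
        _ = s * u * s⁻¹ * (z1 * (z2 * z1⁻¹ * u⁻¹)) * z2⁻¹ := by group
        _ = s * u * s⁻¹ * (z1 * (z1⁻¹ * z2 * u⁻¹)) * z2⁻¹ := by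
            have h7 : z1⁻¹ * z2 = z2 * z1⁻¹ := hz2 z1⁻¹ (inv_mem (hZle (hβZ s hs)))
            rw [h7]
        _ = s * u * s⁻¹ * (z2 * u⁻¹) * z2⁻¹ := by group
        _ = s * u * s⁻¹ * (u⁻¹ * z2) * z2⁻¹ := by rw [hz2 u⁻¹ (inv_mem hu)]
        _ = _ := by group
    · intro x y _ _ hx hy; rw [map_mul, hx, hy]
    · intro x _ hx; rw [map_inv, hx]
  have hθ := h.hom (fun s => s⁻¹ * β s) hβZ hθmul (fun z hz => by
      show z⁻¹ * β z = 1
      rw [hβfix z hz, inv_mul_cancel]) (by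
      intro d hd hdw s hs
      show (d * s * d⁻¹)⁻¹ * β (d * s * d⁻¹) = d * (s⁻¹ * β s) * d⁻¹
      rw [map_mul, map_mul, map_inv, hβd d hd hdw]
      group)
  have hβs : ∀ s ∈ S, β s = s := fun s hs => (inv_mul_eq_one.1 (hθ s hs)).symm
  -- `β(g) ∈ g H` for all `g`
  have hall : ∀ g : Y, g⁻¹ * β g ∈ H := by
    intro g
    by_cases hg : g ∈ H
    · exact mul_mem (inv_mem hg) (hβH g hg)
    · obtain ⟨s, hs, hb'⟩ := h.data.bruhat g hg
      have h1 := hβH _ hb'
      rw [map_mul, map_inv, map_mul, hβs s hs, hkw] at h1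
      have e : g⁻¹ * β g = ((s * w)⁻¹ * g)⁻¹ * k * ((s * (w * k))⁻¹ * β g) := by group
      rw [e]
      exact mul_mem (mul_mem (inv_mem hb') hk) h1
  have hone : ∀ g : Y, β g = g := by
    intro g
    have h1 : g⁻¹ * β g = 1 := by
      apply h.core
      intro k'
      have h2 := hall (g * k')
      have h3 := hall k'
      have e : k'⁻¹ * (g⁻¹ * β g) * k' = ((g * k')⁻¹ * β (g * k')) * (k'⁻¹ * β k')⁻¹ := by
        rw [map_mul]; group
      rw [e]
      exact mul_mem h2 (inv_mem h3)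
    exact (inv_mul_eq_one.1 h1).symm
  refine ⟨t, ht, fun y => ?_⟩
  have h1 := hone y
  rw [hβa] at h1
  have e : α y = t * (t⁻¹ * α y * t) * t⁻¹ := by group
  rw [e, h1]

/-- commutators of elements of `S` are central in `S` -/
theorem comm_mem {s u : Y} (hs : s ∈ S) (hu : u ∈ S) : s * u * s⁻¹ * u⁻¹ ∈ Zs S := by
  have e : s * u * s⁻¹ * u⁻¹ = ((s * u) * (s * u)) * (u⁻¹ * ((s⁻¹ * s⁻¹) * u)) * (u⁻¹ * u⁻¹) := by group
  rw [e, ← (mem_Zs.1 (h.sq _ (inv_mem hs))).2 u hu, inv_mul_cancel_left]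
  exact mul_mem (mul_mem (h.sq _ (mul_mem hs hu)) (h.sq _ (inv_mem hs))) (h.sq _ (inv_mem hu))

end Pack

end Cfsg.Agent.FooteExc

end

-- merged: Cfsg.Agent.FooteExc.ModelSz
section

/-!
# The exceptional groups of S1252: the Suzuki groups (helper86)
-/

set_option autoImplicit false
set_option linter.style.haveILetI false

namespace Cfsg.Agent.FooteExc

open Subgroup Cfsg.Agent.LieRecognition.RankOneAbstract Cfsg.Agent.LieRecognition.SzMatrix
open Cfsg.Agent.SuzukiRankOne Cfsg.Agent.SuzukiRankOne.SzModel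

/-- the core of the Borel subgroup is trivial if the action on the cosets is faithful -/
theorem core_of_faithful {G : Type*} [Group G] (H : Subgroup G) (hf : FaithfulSMul G (G ⧸ H)) (g : G)
    (h : ∀ k : G, k⁻¹ * g * k ∈ H) : g = 1 := by
  apply hf.eq_of_smul_eq_smul (α := G ⧸ H)
  intro x
  induction x using QuotientGroup.induction_on with
  | H k =>
    rw [one_smul]
    show (QuotientGroup.mk (g * k) : G ⧸ H) = QuotientGroup.mk k
    rw [eq_comm, QuotientGroup.eq]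
    have := h k
    rwa [mul_assoc] at this

theorem isPGroup_of_sq {G : Type*} [Group G] {S : Subgroup G} (h1 : ∀ z ∈ Zs S, z * z = 1)
    (h2 : ∀ s ∈ S, s * s ∈ Zs S) : IsPGroup 2 S := by
  rintro ⟨s, hs⟩
  refine ⟨2, Subtype.ext ?_⟩
  have h3 := h1 _ (h2 s hs)
  show s ^ (2 ^ 2) = 1
  rw [show (2 ^ 2 : ℕ) = 2 + 2 from rfl, pow_add, pow_two, h3]

section Sz

variable {F : Type} [Field F] [Finite F] {θ : F →+* F} {e : ℕ}

theorem exists_theta_ne (H : Good F θ e) {m : F} (hm0 : m ≠ 0) (hm1 : m ≠ 1) : ∃ c : F, θ c ≠ c := by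
  by_contra hall
  push Not at hall
  have h1 := H.sq m
  rw [hall, hall] at h1
  have h2 : m * (m - 1) = 0 := by rw [mul_sub, mul_one, ← sq, ← h1, sub_self]
  rcases mul_eq_zero.1 h2 with h3 | h3
  · exact hm0 h3
  · exact hm1 (sub_eq_zero.1 h3)

theorem theta_eq_self (H : Good F θ e) {c : F} (hc : c ≠ 0) (h : θ c = c) : c = 1 := by
  have h1 := H.sq c
  rw [h, h] at h1
  have h2 : c * (c - 1) = 0 := by rw [mul_sub, mul_one, ← sq, ← h1, sub_self]
  rcases mul_eq_zero.1 h2 with h3 | h3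
  · exact absurd h3 hc
  · exact sub_eq_zero.1 h3

/-- `c ↦ θ(c)/c` is surjective -/
theorem exists_chi (H : Good F θ e) {a : F} (ha : a ≠ 0) : ∃ c : Fˣ, θ (c : F) * (c : F)⁻¹ = a := by
  let φ : Fˣ →* Fˣ := (Units.map (θ : F →* F)) * (MonoidHom.id Fˣ)⁻¹
  have hφ : ∀ c : Fˣ, ((φ c : Fˣ) : F) = θ (c : F) * (c : F)⁻¹ := fun c => by
    simp [φ]
  have hinj : Function.Injective φ := by
    rw [injective_iff_map_eq_one]
    intro c hc
    have h1 : θ (c : F) * (c : F)⁻¹ = 1 := by rw [← hφ, hc]; rfl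
    rw [mul_inv_eq_one₀ c.ne_zero] at h1
    exact Units.ext (theta_eq_self H c.ne_zero h1)
  have hsurj : Function.Surjective φ := Finite.injective_iff_surjective.1 hinj
  obtain ⟨c, hc⟩ := hsurj (Units.mk0 a ha)
  exact ⟨c, by rw [← hφ, hc]; rfl⟩

theorem mem_Zs_unip (H : Good F θ e) {m : F} (hm0 : m ≠ 0) (hm1 : m ≠ 1) (a b : F) :
    H.u a b ∈ Zs H.unip ↔ a = 0 := by
  rw [mem_Zs]
  constructor
  · rintro ⟨-, h⟩
    have h1 : ∀ c : F, c * θ a = a * θ c := by
      intro c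
      have h2 := h (H.u c 0) (H.u_mem_unip c 0)
      rw [H.u_mul, H.u_mul] at h2
      have h3 := (H.u_inj h2).2
      rw [zero_add, add_zero] at h3
      exact add_left_cancel h3
    have h2 := h1 1
    rw [map_one, mul_one, one_mul] at h2
    obtain ⟨c, hc⟩ := exists_theta_ne H hm0 hm1
    by_contra ha
    have h3 := h1 c
    rw [h2, mul_comm] at h3
    exact hc (mul_left_cancel₀ ha h3).symm
  · rintro rfl
    refine ⟨H.u_mem_unip 0 b, fun s hs => ?_⟩
    obtain ⟨c, d, rfl⟩ := (H.mem_unip_iff s).1 hs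
    rw [H.u_mul, H.u_mul, map_zero, mul_zero, zero_mul]
    congr 1 <;> ring

theorem u_comm (H : Good F θ e) (a c : F) :
    H.u a 0 * H.u c 0 * (H.u a 0)⁻¹ * (H.u c 0)⁻¹ = H.u 0 (a * θ c + c * θ a) := by
  rw [mul_inv_eq_iff_eq_mul, mul_inv_eq_iff_eq_mul, H.u_mul, H.u_mul, H.u_mul]
  have h0 := H.two
  congr 1
  · linear_combination (0 : F) * h0
  · linear_combination (-(c * θ a)) * h0

theorem pack_sz (H : Good F θ e) {lam : F} (h0 : lam ≠ 0) (h1 : lam ≠ 1) (h2 : lam ^ 2 + lam + 1 ≠ 0) :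
    Pack H.borel H.unip H.w := by
  have hadd := H.add_self
  have hZ := mem_Zs_unip H h0 h1
  have hzsq : ∀ z ∈ Zs H.unip, z * z = 1 := by
    intro z hz
    obtain ⟨a, b, rfl⟩ := (H.mem_unip_iff z).1 hz.1
    have ha := (hZ a b).1 hz
    subst ha
    rw [H.u_mul, map_zero, mul_zero, add_zero, add_zero, hadd, H.u_zero]
  have hsq : ∀ s ∈ H.unip, s * s ∈ Zs H.unip := by
    intro s hs
    obtain ⟨a, b, rfl⟩ := (H.mem_unip_iff s).1 hs
    rw [H.u_mul, hZ, hadd]
  have htor : ∀ d ∈ H.borel, (H.w)⁻¹ * d * H.w ∈ H.borel → ∃ c : Fˣ, kap H c = d := by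
    intro d hd hdw
    obtain ⟨k, rfl⟩ := (mem_torus_iff H d).2 ⟨hd, hdw⟩
    refine ⟨Units.map (θ : F →* F) k, ?_⟩
    obtain ⟨k', hk1, hk2, -⟩ := exists_kap H (Units.map (θ : F →* F) k)
    rw [hk1, diag_apply]
    congr 1
    apply Units.ext
    apply θ.injective
    rw [hk2]
    rfl
  have hkB : ∀ c : Fˣ, kap H c ∈ H.borel := by
    intro c
    obtain ⟨k, h1, -⟩ := exists_kap H c
    rw [h1]
    exact H.d_mem_borel k
  have hkW : ∀ c : Fˣ, (H.w)⁻¹ * kap H c * H.w ∈ H.borel := by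
    intro c
    obtain ⟨k, h1, -⟩ := exists_kap H c
    rw [h1, w_conj_d]
    exact H.d_mem_borel _
  have hkinv : ∀ (c : Fˣ) (a b : F), (kap H c)⁻¹ * H.u a b * kap H c =
      H.u (a * (θ (c : F) * (c : F)⁻¹)⁻¹) (b * (c : F)⁻¹) := by
    intro c a b
    have h3 := kap_conj H c⁻¹ a b
    rw [map_inv, inv_inv] at h3
    rw [h3]
    rw [Units.val_inv_eq_inv_val, map_inv₀, inv_inv, mul_inv, inv_inv, mul_assoc]
  refine { data := SzModel.data H, two := isPGroup_of_sq hzsq hsq, odd := ?_, core := ?_, ne := ?_, zsq := hzsq, sq := hsq, gen := ?_, faith := ?_, hom := ?_, fuse := ?_, form := ?_ }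
  · intro hd
    exact Nat.not_even_iff_odd.mpr (Reduction.odd_index_of_le (setup H) le_rfl) (even_iff_two_dvd.mpr hd)
  · exact core_of_faithful _ (SzModel.faithful H)
  · intro hb
    have h3 : H.u 1 0 ∈ H.unip := H.u_mem_unip 1 0
    rw [hb, mem_bot, ← H.u_zero] at h3
    exact one_ne_zero (H.u_inj h3).1
  · intro z hz
    obtain ⟨a, b, rfl⟩ := (H.mem_unip_iff z).1 hz.1
    have ha := (hZ a b).1 hz
    subst ha
    obtain ⟨c₀, hc₀⟩ := exists_theta_ne H h0 h1
    have hm : θ c₀ + c₀ ≠ 0 := by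
      intro h3
      apply hc₀
      have h4 := hadd c₀
      exact add_right_cancel (h3.trans h4.symm)
    by_cases hb : b = 0
    · subst hb; rw [H.u_zero]; exact one_mem _
    · obtain ⟨k, hk⟩ : ∃ k, k = b / (θ c₀ + c₀) := ⟨_, rfl⟩
      have hk0 : k ≠ 0 := by rw [hk]; exact div_ne_zero hb hm
      have hθk : θ k ≠ 0 := (map_ne_zero θ).2 hk0
      apply Subgroup.subset_closure
      refine ⟨H.u (θ k / k) 0, H.u_mem_unip _ _, H.u (θ k / k * c₀) 0, H.u_mem_unip _ _, ?_⟩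
      rw [u_comm]
      congr 1
      rw [map_mul, map_div₀, H.sq k]
      have h5 : b = k * (θ c₀ + c₀) := by rw [hk, div_mul_cancel₀ _ hm]
      rw [h5]
      field_simp
  · intro d hd hdw hs
    obtain ⟨c, rfl⟩ := htor d hd hdw
    have h3 := hs (H.u 1 0) (H.u_mem_unip 1 0)
    rw [kap_conj, H.u_inv, H.u_mul, hZ, one_mul] at h3
    have h4 : θ (c : F) * (c : F)⁻¹ = 1 := by
      have h5 := hadd 1
      exact (add_left_cancel (h5.trans h3.symm)).symm
    rw [mul_inv_eq_one₀ c.ne_zero] at h4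
    have h5 : c = 1 := Units.ext (theta_eq_self H c.ne_zero h4)
    rw [h5, map_one]
  · intro f hf hfm hfz hfd
    -- coordinates
    have hex : ∀ a : F, ∃ p : F, f (H.u a 0) = H.u 0 p := by
      intro a
      have h3 := hf _ (H.u_mem_unip a 0)
      obtain ⟨x, y, hxy⟩ := (H.mem_unip_iff _).1 h3.1
      rw [hxy, hZ] at h3
      exact ⟨y, by rw [hxy, h3]⟩
    choose φ hφ using hex
    have hφb : ∀ a b : F, f (H.u a b) = H.u 0 (φ a) := by
      intro a b
      have h3 : H.u a b = H.u a 0 * H.u 0 b := by rw [H.u_mul, map_zero, mul_zero, add_zero, add_zero, zero_add]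
      rw [h3, hfm _ (H.u_mem_unip _ _) _ (H.u_mem_unip _ _), hφ, hfz _ ((hZ 0 b).2 rfl), mul_one]
    have hφadd : ∀ a b : F, φ (a + b) = φ a + φ b := by
      intro a b
      have h3 := hfm _ (H.u_mem_unip a 0) _ (H.u_mem_unip b 0)
      rw [H.u_mul, hφb, hφ, hφ, H.u_mul, map_zero, mul_zero, add_zero] at h3
      have h4 := (H.u_inj h3).2
      rwa [add_zero] at h4
    have hφk : ∀ (c : Fˣ) (a : F), φ (a * (θ (c : F) * (c : F)⁻¹)) = φ a * c := by
      intro c a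
      have h3 := hfd _ (hkB c) (hkW c) _ (H.u_mem_unip a 0)
      rw [kap_conj, hφb, hφ, kap_conj] at h3
      have h4 := (H.u_inj h3).2
      rw [← mul_assoc]
      exact h4
    -- `φ 1 = 0`
    have h3 : φ 1 = 0 := by
      by_contra hne
      -- choose `c` with `χ c + 1 ≠ 0`
      have hlam1 : lam + 1 ≠ 0 := by
        intro h4
        exact h1 (add_right_cancel (h4.trans (hadd 1).symm))
      obtain ⟨c, hc⟩ := exists_chi H h0
      obtain ⟨c', hc'⟩ := exists_chi H hlam1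
      have h4 := hφk c 1
      have h5 := hφk c' 1
      rw [one_mul, hc] at h4
      rw [one_mul, hc', hφadd, h4] at h5
      have h6 : (c' : F) = (c : F) + 1 := by
        apply mul_left_cancel₀ hne
        rw [← h5]; ring
      have h7 : θ (c : F) = lam * c := by
        rw [← hc, inv_mul_cancel_right₀ c.ne_zero]
      have h8 : θ (c' : F) = (lam + 1) * c' := by
        rw [← hc', inv_mul_cancel_right₀ c'.ne_zero]
      rw [h6, map_add, map_one, h7] at h8
      -- `lam = c`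
      have h9 : lam = (c : F) := by
        have h10 := H.two
        linear_combination (-1 : F) * h8 - (c : F) * h10
      have h11 := H.sq (c : F)
      rw [h7, h9, map_mul, h7, h9] at h11
      have h12 : (c : F) ^ 2 * ((c : F) - 1) * ((c : F) + 1) = 0 := by linear_combination h11
      rcases mul_eq_zero.1 h12 with h13 | h13
      · rcases mul_eq_zero.1 h13 with h14 | h14
        · exact c.ne_zero (pow_eq_zero_iff two_ne_zero |>.1 h14)
        · exact h1 (h9.trans (sub_eq_zero.1 h14))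
      · exact hlam1 (by rw [h9]; exact h13)
    intro s hs
    obtain ⟨a, b, rfl⟩ := (H.mem_unip_iff s).1 hs
    rw [hφb]
    have h4 : φ a = 0 := by
      by_cases ha : a = 0
      · subst ha
        have := hφadd 0 0
        rw [add_zero] at this
        linear_combination (-1 : F) * this
      · obtain ⟨c, hc⟩ := exists_chi H ha
        have := hφk c 1
        rw [one_mul, hc, h3, zero_mul] at this
        exact this
    rw [h4, H.u_zero]
  · intro t ht htd
    obtain ⟨a, b, rfl⟩ := (H.mem_unip_iff t).1 ht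
    rw [hZ]
    obtain ⟨c, hc⟩ := exists_chi H h0
    have h3 := htd _ (hkB c)
    rw [kap_conj, H.u_inv, H.u_mul, hZ] at h3
    rw [mul_assoc, hc] at h3
    have h4 : a * (1 + lam) = 0 := by rw [mul_add, mul_one, h3]
    rcases mul_eq_zero.1 h4 with h5 | h5
    · exact h5
    · exfalso
      apply h1
      rw [add_comm] at h5
      exact add_right_cancel (h5.trans (hadd 1).symm)
  · have hlam1 : lam + 1 ≠ 0 := by
      intro h4
      exact h1 (add_right_cancel (h4.trans (hadd 1).symm))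
    obtain ⟨c, hc⟩ := exists_chi H h0
    obtain ⟨c', hc'⟩ := exists_chi H hlam1
    refine ⟨_, hkB c, _, hkB c', ?_, ?_⟩
    · intro s hs
      obtain ⟨a, b, rfl⟩ := (H.mem_unip_iff s).1 hs
      rw [kap_conj, kap_conj, H.u_mul, H.u_inv, H.u_mul, hZ, mul_assoc, mul_assoc, hc, hc']
      linear_combination (a + a * lam) * H.two
    · intro t ht
      obtain ⟨a, b, rfl⟩ := (H.mem_unip_iff t).1 ht
      set x := a * (lam * (lam + 1)) / (lam ^ 2 + lam + 1) with hx
      refine ⟨H.u x 0, H.u_mem_unip _ _, ?_⟩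
      rw [hkinv, hkinv, H.u_mul, H.u_mul, H.u_inv, H.u_mul, hZ, hc, hc']
      have h5 : x + x * lam⁻¹ + x * (lam + 1)⁻¹ = a := by
        have h6 : x * (lam ^ 2 + lam + 1) = a * (lam * (lam + 1)) := by
          rw [hx, div_mul_cancel₀ _ h2]
        field_simp
        linear_combination h6 + (x * lam) * H.two
      rw [h5, hadd]

end Sz

end Cfsg.Agent.FooteExc

end

-- merged: Cfsg.Agent.FooteExc.ModelPSU
section

/-!
# The exceptional groups of S1252: `PSU(3, 2^n)` (helper86)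
-/

set_option autoImplicit false
set_option linter.style.haveILetI false
set_option linter.unusedSectionVars false

namespace Cfsg.Agent.FooteExc

open Subgroup Matrix Cfsg.Agent.LieRecognition Cfsg.Agent.LieRecognition.RankOneAbstract
open Cfsg.Agent.LieRecognition.HermHeis Cfsg.Agent.SuzukiRankOne Cfsg.Agent.SuzukiRankOne.PSUModel
open Cfsg.Agent.LieRecognition.PSUThreeSylow

section Model

variable {F : Type*} [Field F] [CharP F 2] {σ : F →+* F} [hσ : Fact (∀ x, σ (σ x) = x)]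

theorem sig_ne (l : Fˣ) : σ (l : F) ≠ 0 := (map_ne_zero σ).2 l.ne_zero

/-- The matrix `diag(l, σ(l)/l, 1/σ(l))`. -/
def lmat (σ : F →+* F) (l : Fˣ) : Matrix (Fin 3) (Fin 3) F :=
  !![(l : F), 0, 0; 0, σ l * (l : F)⁻¹, 0; 0, 0, (σ l)⁻¹]

theorem det_lmat (l : Fˣ) : (lmat σ l).det = 1 := by
  have h1 := l.ne_zero
  have h2 := sig_ne (σ := σ) l
  rw [lmat, Matrix.det_fin_three]
  simp
  field_simp

/-- The element `diag(l, σ(l)/l, 1/σ(l))` of `SUJ σ`. -/
def dia (σ : F →+* F) [hσ : Fact (∀ x, σ (σ x) = x)] (l : Fˣ) : SUJ σ :=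
  ⟨⟨lmat σ l, det_lmat l⟩, by
    have h1 := l.ne_zero
    have h2 := sig_ne (σ := σ) l
    change (lmat σ l)ᵀ * Jm F * (lmat σ l).map σ = Jm F
    ext i j
    fin_cases i <;> fin_cases j <;>
      simp [lmat, Jm, Matrix.mul_apply, Fin.sum_univ_three, HermHeis.sig]
    field_simp⟩

theorem dia_val (l : Fˣ) : (dia σ l).1.1 = lmat σ l := rfl

theorem dia_mem_borel (l : Fˣ) : dia σ l ∈ borel σ := by
  rw [mem_borel]
  constructor <;> simp [dia, lmat]

theorem dia_mem_torus (l : Fˣ) : dia σ l ∈ torus σ := by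
  rw [mem_torus]
  refine ⟨dia_mem_borel l, ?_⟩
  rw [wel_inv, mem_borel, coe_mul_SUJ, coe_mul_SUJ, wel_val]
  rw [(mul_Jm_apply _ 1).1, (Jm_mul_apply _ 2).2.1, (mul_Jm_apply _ 2).1, (Jm_mul_apply _ 2).2.2]
  constructor <;> simp [dia, lmat]

theorem exists_dia {k : SUJ σ} (hk : k ∈ torus σ) : ∃ l : Fˣ, k = dia σ l := by
  have hne : k.1.1 0 0 ≠ 0 := by
    have hh := entries_of_mem_torus hk
    have hdet : k.1.1.det = 1 := k.1.2
    rw [Matrix.det_fin_three, hh.1, hh.2.1] at hdet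
    intro h0
    rw [h0] at hdet
    simp at hdet
  refine ⟨Units.mk0 _ hne, ?_⟩
  have h1 : (⟨k, hk⟩ : torus σ) = ⟨dia σ (Units.mk0 _ hne), dia_mem_torus _⟩ := by
    apply torusHom_injective
    show k.1.1 0 0 = (lmat σ (Units.mk0 _ hne)) 0 0
    simp [lmat]
  exact congrArg Subtype.val h1

/-- the character of the torus on the first coordinate -/
def chi (σ : F →+* F) (l : Fˣ) : F := (l : F) ^ 2 / σ l

theorem chi_ne (l : Fˣ) : chi σ l ≠ 0 := div_ne_zero (pow_ne_zero _ l.ne_zero) (sig_ne l)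

theorem chi_inv (l : Fˣ) : chi σ l⁻¹ = (chi σ l)⁻¹ := by
  unfold chi
  rw [Units.val_inv_eq_inv_val, map_inv₀, inv_div]
  have h1 := l.ne_zero
  have h2 := sig_ne (σ := σ) l
  field_simp

/-- the action of the torus on `Heis σ` -/
def actL (l : Fˣ) (x : Heis σ) : Heis σ :=
  ⟨chi σ l * x.a, (l : F) * σ l * x.b, by
    have h1 := l.ne_zero
    have h2 := sig_ne (σ := σ) l
    have h := x.h
    simp only [chi, map_mul, map_div₀, map_pow, sig]
    have e : (l : F) * σ l * x.b + σ l * l * σ x.b = (l : F) * σ l * (x.b + σ x.b) := by ring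
    rw [e, h]
    field_simp⟩

@[simp] theorem actL_a (l : Fˣ) (x : Heis σ) : (actL l x).a = chi σ l * x.a := rfl
@[simp] theorem actL_b (l : Fˣ) (x : Heis σ) : (actL l x).b = (l : F) * σ l * x.b := rfl

theorem dia_mul_emb (l : Fˣ) (x : Heis σ) : dia σ l * emb σ x = emb σ (actL l x) * dia σ l := by
  have h1 := l.ne_zero
  have h2 := sig_ne (σ := σ) l
  apply Subtype.ext
  apply Subtype.ext
  rw [coe_mul_SUJ, coe_mul_SUJ, emb_val, emb_val, dia_val]
  ext i j
  fin_cases i <;> fin_cases j <;>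
    simp [lmat, umat, chi, Matrix.mul_apply, Fin.sum_univ_three, sig]
  · field_simp
  · field_simp
  · field_simp

theorem actL_inv (l : Fˣ) (x : Heis σ) : actL l (actL l⁻¹ x) = x := by
  have h1 := l.ne_zero
  have h2 := sig_ne (σ := σ) l
  ext
  · rw [actL_a, actL_a, chi_inv, mul_inv_cancel_left₀ (chi_ne l)]
  · rw [actL_b, actL_b, Units.val_inv_eq_inv_val, map_inv₀]
    field_simp

theorem dia_central {l : Fˣ} (h : chi σ l = 1) : dia σ l ∈ Subgroup.center (SUJ σ) := by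
  have h1 := l.ne_zero
  have h2 := sig_ne (σ := σ) l
  have h3 : σ (l : F) = (l : F) ^ 2 := by
    rw [chi, div_eq_one_iff_eq h2] at h
    exact h.symm
  have h4 : (l : F) ^ 4 = l := by
    have := sig (σ := σ) (l : F)
    rw [h3, map_pow, h3] at this
    calc (l : F) ^ 4 = ((l : F) ^ 2) ^ 2 := by ring
      _ = (l : F) := this
  have h5 : (l : F) ^ 3 = 1 := mul_right_cancel₀ h1 (by rw [one_mul, ← pow_succ]; exact h4)
  have hscal : (dia σ l).1.1 = Matrix.scalar (Fin 3) (l : F) := by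
    rw [dia_val]
    ext i j
    fin_cases i <;> fin_cases j <;> simp [lmat, h3]
    · field_simp
    · field_simp
      linear_combination -h5
  rw [Subgroup.mem_center_iff]
  intro k
  apply Subtype.ext
  apply Subtype.ext
  change k.1.1 * (dia σ l).1.1 = (dia σ l).1.1 * k.1.1
  rw [hscal]
  exact (Matrix.scalar_commute (l : F) (Commute.all _) k.1.1).eq.symm

end Model

section Lam

variable {F : Type*} [Field F] [Finite F] [CharP F 2] {σ : F →+* F} [hσ : Fact (∀ x, σ (σ x) = x)]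

theorem exists_lam {n : ℕ} (hn : 2 ≤ n) (hs : ∀ x, σ x = x ^ (2 ^ n)) (hF : Nat.card F = (2 ^ n) ^ 2) :
    ∃ l₁ l₂ : Fˣ, chi σ l₂ = chi σ l₁ + 1 ∧ (chi σ l₁) ^ 2 + chi σ l₁ + 1 ≠ 0 := by
  have hq : 1 < 2 ^ n := Nat.one_lt_two_pow (by omega)
  have h4 : Nat.card {x : F // iterateFrobenius F 2 2 x = x} ≤ 4 :=
    card_fixed_le (σ := iterateFrobenius F 2 2) (by norm_num) (fun x => by
      rw [iterateFrobenius_def]; norm_num)
  have hfr : ∀ x : F, iterateFrobenius F 2 2 x = x ^ 4 := fun x => by rw [iterateFrobenius_def]; norm_num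
  -- an element of a large subset which is not fixed
  have hex : ∀ P : F → Prop, 4 < Nat.card {x : F // P x} → ∃ x, P x ∧ x ^ 4 ≠ x := by
    intro P hP
    by_contra hall
    push Not at hall
    have h5 : Nat.card {x : F // P x} ≤ Nat.card {x : F // iterateFrobenius F 2 2 x = x} :=
      Nat.card_le_card_of_injective (fun x => ⟨x.1, by rw [hfr]; exact hall x.1 x.2⟩)
        (fun x y hxy => Subtype.ext (congrArg (fun z : {x : F // iterateFrobenius F 2 2 x = x} => (z : F)) hxy))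
    omega
  have hne : ∀ x : F, x ^ 4 ≠ x → x ≠ 0 ∧ x + 1 ≠ 0 ∧ x ^ 2 + x + 1 ≠ 0 := by
    intro x hx
    have h2 : (2 : F) = 0 := CharTwo.two_eq_zero
    refine ⟨?_, ?_, ?_⟩
    · rintro rfl; exact hx (by ring)
    · intro h; apply hx
      linear_combination (x ^ 3 - x ^ 2 + x) * h - x * h2
    · intro h; apply hx
      linear_combination (x ^ 2 - x) * h
  rcases Nat.lt_or_ge n 3 with h3 | h3
  · have hn2 : n = 2 := by omega
    subst hn2
    obtain ⟨x, -, hx⟩ := hex (fun _ => True) (by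
      rw [Nat.card_congr (Equiv.subtypeUnivEquiv (fun _ => trivial)), hF]; norm_num)
    obtain ⟨hx0, hx1, hx2⟩ := hne x hx
    -- every unit is a value of `chi`
    have hsurj : ∀ y : F, y ≠ 0 → ∃ l : Fˣ, chi σ l = y := by
      intro y hy
      obtain ⟨z, hz⟩ : ∃ z : F, z ^ 2 = y := by
        have := (Finite.injective_iff_surjective.1 (frobenius F 2).injective) y
        obtain ⟨z, hz⟩ := this
        exact ⟨z, by rw [← hz, frobenius_def]⟩
      have hz0 : z ≠ 0 := by rintro rfl; apply hy; rw [← hz]; ring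
      refine ⟨(Units.mk0 z hz0)⁻¹, ?_⟩
      rw [chi_inv, chi, Units.val_mk0, hs, ← hz]
      field_simp
      try ring
    obtain ⟨l₁, hl₁⟩ := hsurj x hx0
    obtain ⟨l₂, hl₂⟩ := hsurj (x + 1) hx1
    exact ⟨l₁, l₂, by rw [hl₁, hl₂], by rw [hl₁]; exact hx2⟩
  · obtain ⟨x, hxσ, hx⟩ := hex (fun x => σ x = x) (by
      rw [(card_fixed (σ := σ) hq hs hF).1]
      calc 4 < 2 ^ 3 := by norm_num
        _ ≤ 2 ^ n := Nat.pow_le_pow_right (by norm_num) h3)
    obtain ⟨hx0, hx1, hx2⟩ := hne x hx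
    have hchi : ∀ y : F, ∀ hy : y ≠ 0, σ y = y → chi σ (Units.mk0 y hy) = y := by
      intro y hy h
      rw [chi, Units.val_mk0, h]
      field_simp
    refine ⟨Units.mk0 x hx0, Units.mk0 (x + 1) hx1, ?_, ?_⟩
    · rw [hchi _ _ hxσ, hchi _ _ (by rw [map_add, map_one, hxσ])]
    · rw [hchi _ _ hxσ]; exact hx2

/-- **The pack of `PSU(3, 2^n)`**, `n ≥ 2`. -/
theorem exists_pack_psu {n : ℕ} (hn : 2 ≤ n) (hs : ∀ x, σ x = x ^ (2 ^ n)) (hF : Nat.card F = (2 ^ n) ^ 2) :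
    ∃ (H S : Subgroup (Cfsg.PSU 3 F (2 ^ n))) (w : Cfsg.PSU 3 F (2 ^ n)), Pack H S w := by
  have hn1 : 1 ≤ n := by omega
  have hq : 1 < 2 ^ n := Nat.one_lt_two_pow (by omega)
  have hq4 : 3 < 2 ^ n := by
    calc 3 < 2 ^ 2 := by norm_num
      _ ≤ 2 ^ n := Nat.pow_le_pow_right (by norm_num) hn
  have hadd : ∀ x : F, x + x = 0 := CharTwo.add_self_eq_zero
  obtain ⟨x₀, hx₀⟩ := HermHeis.exists_heis_a (σ := σ) hq hs hF 1
  have hexa := HermHeis.exists_heis_a (σ := σ) hq hs hF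
  have hx : ∃ x : Heis σ, x.a ≠ 0 := ⟨x₀, by rw [hx₀]; exact one_ne_zero⟩
  obtain ⟨c, hc⟩ := HermHeis.exists_not_fixed (σ := σ) hq hs hF
  obtain ⟨T, T', hTT', hT⟩ := exists_T hc
  let e : SUJ σ ≃* Cfsg.SU 3 F (2 ^ n) :=
    ((conjT hTT').subgroupMap (SUJ σ)).trans (MulEquiv.subgroupCongr (SU_eq_map hs hTT' hT))
  let π : SUJ σ →* Cfsg.PSU 3 F (2 ^ n) :=
    (QuotientGroup.mk' (Subgroup.center (Cfsg.SU 3 F (2 ^ n)))).comp e.toMonoidHom
  have hπ : Function.Surjective π := (QuotientGroup.mk'_surjective _).comp e.surjective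
  have hker : ∀ g, π g = 1 ↔ g ∈ Subgroup.center (SUJ σ) := by
    intro g
    have h1 : π g = 1 ↔ e g ∈ Subgroup.center (Cfsg.SU 3 F (2 ^ n)) := by
      rw [← QuotientGroup.eq_one_iff]
      exact Iff.rfl
    rw [h1, Subgroup.mem_center_iff, Subgroup.mem_center_iff]
    constructor
    · intro h k
      apply e.injective
      rw [map_mul, map_mul]
      exact h (e k)
    · intro h k
      obtain ⟨k, rfl⟩ := e.surjective k
      rw [← map_mul, ← map_mul, h k]
  have hkB : π.ker ≤ borel σ := by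
    intro g hg
    exact center_le_borel hx ((hker g).mp hg)
  have hD := data_map data_SUJ π hπ hkB
  have hinj : ∀ x y : Heis σ, π (emb σ x) = π (emb σ y) → x = y := by
    intro x y h
    have h1 : π (emb σ (x * y⁻¹)) = 1 := by
      rw [map_mul, map_mul, map_inv, map_inv, h, mul_inv_cancel]
    exact mul_inv_eq_one.mp (eq_one_of_mem_center ((hker _).mp h1))
  have hcard : Nat.card ((emb σ).range.map π : Subgroup (Cfsg.PSU 3 F (2 ^ n))) = 2 ^ (n * 3) := by
    rw [MonoidHom.map_range, ← Nat.card_congr (MonoidHom.ofInjective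
      (f := π.comp (emb σ)) (fun x y h => hinj x y h)).toEquiv, HermHeis.card_heis hq hs hF,
      ← pow_mul]
  have htor' : ∀ g' : Cfsg.PSU 3 F (2 ^ n), g' ∈ (torus σ).map π ↔
      g' ∈ (borel σ).map π ∧ (π (wel σ))⁻¹ * g' * π (wel σ) ∈ (borel σ).map π := by
    intro g'
    obtain ⟨g, rfl⟩ := hπ g'
    constructor
    · rintro ⟨k, hk, hkg⟩
      obtain ⟨h1, h2⟩ := mem_torus.mp hk
      rw [← hkg]
      exact ⟨⟨k, h1, rfl⟩, ⟨_, h2, by simp⟩⟩
    · rintro ⟨h1, h2⟩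
      refine ⟨g, mem_torus.mpr ⟨mem_of_map_mem π hkB h1, mem_of_map_mem π hkB ?_⟩, rfl⟩
      simpa using h2
  have hset : Cfsg.IsRankOneSetup (Cfsg.PSU 3 F (2 ^ n))
      (Cfsg.PSU 3 F (2 ^ n) ⧸ (borel σ).map π) (QuotientGroup.mk 1) (π (wel σ))
      ((emb σ).range.map π) := by
    refine setup_of_data hD ?_ ?_ (T := (torus σ).map π) htor' ?_
    · rw [← map_mul, wel_mul_wel, map_one]
    · rw [hcard]
      exact (Nat.even_pow' (by omega)).mpr even_two
    · have h1 : Nat.card ((torus σ).map π) ∣ Nat.card (torus σ) := Subgroup.card_map_dvd _ _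
      have h2 := h1.trans (card_torus_dvd (σ := σ))
      refine Odd.of_dvd_nat ?_ h2
      rw [Nat.card_units, hF]
      refine Nat.Even.sub_odd ?_ ?_ odd_one
      · exact Nat.one_le_pow _ _ (by omega)
      · exact (Nat.even_pow' (by norm_num)).mpr ((Nat.even_pow' (by omega)).mpr even_two)
  -- the elements of `S`
  set S : Subgroup (Cfsg.PSU 3 F (2 ^ n)) := (emb σ).range.map π with hS
  set P : Heis σ → Cfsg.PSU 3 F (2 ^ n) := fun x => π (emb σ x) with hP
  have hPm : ∀ x y, P (x * y) = P x * P y := fun x y => by rw [hP]; simp only [map_mul]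
  have hPi : ∀ x, P x⁻¹ = (P x)⁻¹ := fun x => by rw [hP]; simp only [map_inv]
  have hP1 : P 1 = 1 := by rw [hP]; simp only [map_one]
  have hPS : ∀ x, P x ∈ S := fun x => ⟨_, ⟨x, rfl⟩, rfl⟩
  have hPe : ∀ s ∈ S, ∃ x, P x = s := by
    rintro _ ⟨_, ⟨x, rfl⟩, rfl⟩
    exact ⟨x, rfl⟩
  have hZ : ∀ x : Heis σ, P x ∈ Zs S ↔ x.a = 0 := by
    intro x
    rw [← HermHeis.mem_center_iff hq hs hF x, mem_Zs, Subgroup.mem_center_iff]
    constructor
    · rintro ⟨-, h⟩ y
      apply hinj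
      have := h (P y) (hPS y)
      rw [← hPm, ← hPm] at this
      exact this
    · intro h
      refine ⟨hPS x, fun s hs' => ?_⟩
      obtain ⟨y, rfl⟩ := hPe s hs'
      rw [← hPm, ← hPm, h y]
  -- the torus
  set D : Fˣ → Cfsg.PSU 3 F (2 ^ n) := fun l => π (dia σ l) with hDd
  have hDB : ∀ l, D l ∈ (borel σ).map π := fun l => ⟨_, dia_mem_borel l, rfl⟩
  have hDW : ∀ l, (π (wel σ))⁻¹ * D l * π (wel σ) ∈ (borel σ).map π := fun l =>
    ((htor' (D l)).1 ⟨_, dia_mem_torus l, rfl⟩).2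
  have hDex : ∀ d ∈ (borel σ).map π, (π (wel σ))⁻¹ * d * π (wel σ) ∈ (borel σ).map π → ∃ l, D l = d := by
    intro d hd hdw
    obtain ⟨k, hk, rfl⟩ := (htor' d).2 ⟨hd, hdw⟩
    obtain ⟨l, rfl⟩ := exists_dia hk
    exact ⟨l, rfl⟩
  have hDc : ∀ (l : Fˣ) (x : Heis σ), D l * P x * (D l)⁻¹ = P (actL l x) := by
    intro l x
    rw [mul_inv_eq_iff_eq_mul, hDd, hP]
    simp only
    rw [← map_mul, dia_mul_emb, map_mul]
  have hDc' : ∀ (l : Fˣ) (x : Heis σ), (D l)⁻¹ * P x * D l = P (actL l⁻¹ x) := by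
    intro l x
    have h1 := hDc l (actL l⁻¹ x)
    rw [actL_inv] at h1
    rw [← h1]; group
  have hzsq : ∀ z ∈ Zs S, z * z = 1 := by
    intro z hz
    obtain ⟨x, rfl⟩ := hPe z hz.1
    rw [← hPm, (mul_self_eq_one_iff x).2 ((hZ x).1 hz), hP1]
  have hsq : ∀ s ∈ S, s * s ∈ Zs S := by
    intro s hs'
    obtain ⟨x, rfl⟩ := hPe s hs'
    rw [← hPm, hZ, mul_a, hadd]
  obtain ⟨l₁, l₂, hl, hl'⟩ := exists_lam (σ := σ) hn hs hF
  have hchi1 : chi σ l₁ + 1 ≠ 0 := by rw [← hl]; exact chi_ne l₂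
  refine ⟨(borel σ).map π, S, π (wel σ), { data := hD, two := isPGroup_of_sq hzsq hsq, odd := ?_, core := ?_, ne := ?_, zsq := hzsq, sq := hsq, gen := ?_, faith := ?_, hom := ?_, fuse := ?_, form := ?_ }⟩
  · intro hd
    exact Nat.not_even_iff_odd.mpr (Reduction.odd_index_of_le hset le_rfl) (even_iff_two_dvd.mpr hd)
  · intro g hg
    obtain ⟨k, rfl⟩ := hπ g
    rw [hker]
    apply mem_center_of_fix hx
    intro m
    have h1 := hg (π m)
    rw [← map_inv, ← map_mul, ← map_mul] at h1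
    exact mem_of_map_mem π hkB h1
  · intro hb
    have h1 := hPS x₀
    rw [hb, Subgroup.mem_bot, ← hP1] at h1
    have h2 := hinj _ _ h1
    rw [h2] at hx₀
    exact zero_ne_one hx₀
  · intro z hz
    obtain ⟨x, rfl⟩ := hPe z hz.1
    have hxa := (hZ x).1 hz
    have hxb := b_fixed_of_a_eq_zero hxa
    obtain ⟨b, hb⟩ := (card_fixed (σ := σ) hq hs hF).2 x.b hxb
    obtain ⟨y, hy⟩ := hexa b
    apply Subgroup.subset_closure
    refine ⟨P x₀, hPS _, P y, hPS _, ?_⟩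
    rw [← hPm, ← hPi, ← hPm, ← hPi, ← hPm]
    congr 1
    have h1 := x₀.h
    have h2 := y.h
    rw [hx₀, map_one, mul_one] at h1
    rw [hy] at h2
    ext
    · simp only [mul_a, inv_a]
      rw [hxa]
      linear_combination hadd x₀.a + hadd y.a
    · simp only [mul_b, mul_a, inv_a, inv_b, hx₀, hy, map_add, map_one, mul_one, one_mul]
      have h3 := hadd (σ b)
      linear_combination h1 + h2 + hb + hadd 1 + h3 + hadd (b * σ b)
  · intro d hd hdw hds
    obtain ⟨l, rfl⟩ := hDex d hd hdw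
    have h1 := hds (P x₀) (hPS _)
    rw [hDc, ← hPi, ← hPm, hZ, mul_a, inv_a, actL_a, hx₀, mul_one] at h1
    have h2 : chi σ l = 1 := (CharTwo.add_eq_zero.1 h1).symm
    exact (hker _).2 (dia_central h2)
  · intro f hf hfm hfz hfd
    obtain ⟨u, hu1, hu3⟩ := TwoFusion.GoldBenPSU.exists_unit hq4 hF
    have hu : (u : F) * σ u = 1 := by
      rw [hs, ← pow_succ', ← Units.val_pow_eq_pow_val, hu1, Units.val_one]
    have hchi : chi σ u = (u : F) ^ 3 := by
      have h1 := sig_ne (σ := σ) u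
      rw [chi, div_eq_iff h1]
      calc (u : F) ^ 2 = (u : F) ^ 2 * ((u : F) * σ u) := by rw [hu, mul_one]
        _ = _ := by ring
    have hne : chi σ u + 1 ≠ 0 := by
      rw [hchi]
      intro h1
      apply hu3
      apply Units.ext
      rw [Units.val_pow_eq_pow_val, Units.val_one]
      exact CharTwo.add_eq_zero.1 h1
    -- `f` is invariant
    have hinv : ∀ s ∈ S, f (D u * s * (D u)⁻¹) = f s := by
      intro s hs'
      rw [hfd _ (hDB u) (hDW u) s hs']
      obtain ⟨y, hy⟩ := hPe _ (hf s hs').1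
      have hya : y.a = 0 := (hZ y).1 (by rw [hy]; exact hf s hs')
      rw [← hy, hDc]
      congr 1
      ext
      · rw [actL_a, hya, mul_zero]
      · rw [actL_b, hu, one_mul]
    intro s hs'
    obtain ⟨y, rfl⟩ := hPe s hs'
    obtain ⟨x, hxa⟩ := hexa (y.a / (chi σ u + 1))
    -- `y = (u • x) x⁻¹ z`
    have h1 : (P x * P (actL u x))⁻¹ * P y ∈ Zs S := by
      rw [← hPm, ← hPi, ← hPm, hZ, mul_a, inv_a, mul_a, actL_a, hxa]
      field_simp
      linear_combination y.a * hadd (1 + chi σ u)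
    have h2 : P y = (P x * P (actL u x)) * ((P x * P (actL u x))⁻¹ * P y) := by group
    rw [h2, hfm _ (mul_mem (hPS _) (hPS _)) _ h1.1, hfz _ h1, mul_one, hfm _ (hPS _) _ (hPS _), ← hDc,
      hinv _ (hPS _), ← hfm _ (hPS _) _ (hPS _)]
    exact hfz _ (hsq _ (hPS _))
  · intro t ht htd
    obtain ⟨y, rfl⟩ := hPe t ht
    have h1 := htd _ (hDB l₁)
    rw [hDc, ← hPi, ← hPm, hZ, mul_a, inv_a, actL_a] at h1
    rw [hZ]
    have h2 : y.a * (chi σ l₁ + 1) = 0 := by linear_combination h1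
    exact (mul_eq_zero.1 h2).resolve_right hchi1
  · refine ⟨D l₁, hDB l₁, D l₂, hDB l₂, ?_, ?_⟩
    · intro s hs'
      obtain ⟨y, rfl⟩ := hPe s hs'
      rw [hDc, hDc, ← hPm, ← hPi, ← hPm, hZ, mul_a, inv_a, mul_a, actL_a, actL_a, hl]
      linear_combination hadd (y.a + chi σ l₁ * y.a)
    · intro t ht
      obtain ⟨y, rfl⟩ := hPe t ht
      have hc0 := chi_ne (σ := σ) l₁
      obtain ⟨x, hxa⟩ := hexa (y.a * (chi σ l₁ * (chi σ l₁ + 1)) / ((chi σ l₁) ^ 2 + chi σ l₁ + 1))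
      refine ⟨P x, hPS _, ?_⟩
      rw [hDc', hDc', ← hPm, ← hPm, ← hPi, ← hPm, hZ]
      simp only [mul_a, inv_a, actL_a, chi_inv, hl]
      have h5 : x.a + (chi σ l₁)⁻¹ * x.a + (chi σ l₁ + 1)⁻¹ * x.a = y.a := by
        have h6 : x.a * ((chi σ l₁) ^ 2 + chi σ l₁ + 1) = y.a * (chi σ l₁ * (chi σ l₁ + 1)) := by
          rw [hxa, div_mul_cancel₀ _ hl']
        field_simp
        linear_combination h6 + hadd (x.a * chi σ l₁)
      rw [h5, hadd]

end Lam

end Cfsg.Agent.FooteExc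

end
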